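import Groth.Agent.Cyc90.ClosureSub
import Groth.Agent.LimTop61.FiniteBirational
import Mathlib.AlgebraicGeometry.Morphisms.Finite
import Mathlib.AlgebraicGeometry.FunctionField

/-!
Rational sections of finite morphisms over normal schemes.
-/

set_option autoImplicit false
universe u

open CategoryTheory AlgebraicGeometry

namespace Groth.Agent.GenSec95

/-- A map on stalks between fields is bijective once it is surjective on residue fields. -/
theorem isIso_stalkMap_of_residueFieldMap_surjective {Z X : Scheme.{u}} (u : Z ⟶ X) (z : Z)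
    (hZ : IsField (Z.presheaf.stalk z)) (hX : IsField (X.presheaf.stalk (u z)))
    (hs : Function.Surjective (u.residueFieldMap z)) : IsIso (u.stalkMap z) := by
  refine (ConcreteCategory.isIso_iff_bijective _).mpr ⟨?_, fun c => ?_⟩
  · letI := hX.toField
    exact (u.stalkMap z).hom.injective
  · obtain ⟨d, hd⟩ := hs (Z.residue z c)
    obtain ⟨a, rfl⟩ := X.residue_surjective _ d
    refine ⟨a, ?_⟩
    letI := hZ.toField
    apply (Z.residue z).hom.injective
    rw [← hd]
    exact (DFunLike.congr_fun (congrArg CommRingCat.Hom.hom (Scheme.residue_residueFieldMap u z)) a).symm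

/-- A rational section of a finite morphism over a normal integral scheme extends to a section. -/
theorem exists_section {Y X : Scheme.{u}} [IsIntegral X]
    (hN : ∀ x : X, IsIntegrallyClosed (X.presheaf.stalk x)) (f : Y ⟶ X) [IsFinite f]
    (hgen : ∃ s, s ≫ f = X.fromSpecStalk (genericPoint X)) : ∃ s : X ⟶ Y, s ≫ f = 𝟙 X := by
  obtain ⟨s, hs⟩ := hgen
  obtain ⟨o, ho⟩ : ∃ o : Spec (X.presheaf.stalk (genericPoint X)), X.fromSpecStalk (genericPoint X) o = genericPoint X :=
    ⟨IsLocalRing.closedPoint _, Scheme.fromSpecStalk_closedPoint⟩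
  let u : Cyc90.cl (s o) ⟶ X := Cyc90.clι (s o) ≫ f
  have hu : u (genericPoint (Cyc90.cl (s o))) = genericPoint X := by
    show f (Cyc90.clι (s o) _) = _
    rw [Cyc90.clι_genericPoint, ← Scheme.Hom.comp_apply, hs, ho]
  have hres : ∀ y : Y, y = s o → Function.Surjective (f.residueFieldMap y) := by
    rintro y rfl
    have h1 : Function.Surjective ((s ≫ f).residueFieldMap o) := by
      rw [hs]
      exact Cyc90.residueFieldMap_surjective _ _
    rw [Scheme.residueFieldMap_comp] at h1
    intro c
    obtain ⟨d, hd⟩ := h1 (s.residueFieldMap o c)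
    exact ⟨d, (s.residueFieldMap o).hom.injective hd⟩
  have : IsFinite u := inferInstanceAs (IsFinite (Cyc90.clι (s o) ≫ f))
  have hbir : IsIso (u.stalkMap (genericPoint (Cyc90.cl (s o)))) := by
    refine isIso_stalkMap_of_residueFieldMap_surjective u _ ?_ ?_ ?_
    · exact Field.toIsField (Cyc90.cl (s o)).functionField
    · rw [hu]; exact Field.toIsField X.functionField
    · rw [Scheme.residueFieldMap_comp]
      exact (Cyc90.residueFieldMap_surjective _ _).comp (hres _ (Cyc90.clι_genericPoint _))
  have : IsIso u := LimTop61.isIso_of_isFinite_birational hN u hu hbir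
  exact ⟨inv u ≫ Cyc90.clι (s o), by rw [Category.assoc]; exact IsIso.inv_hom_id u⟩

end Groth.Agent.GenSec95
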